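import Mathlib
import Cfsg.Agent.Lib.SzIso.Sol5

/-!
Actions of the Suzuki groups in which every nonidentity element fixes at most two points.
-/

set_option autoImplicit false
set_option linter.unusedSimpArgs false
set_option linter.unusedSectionVars false
set_option linter.style.haveILetI false

namespace Cfsg.Agent.Lib.SzIso.Fix2

open Cfsg Cfsg.Agent.Lib.Suzuki.Core Cfsg.Agent.Lib.Suzuki.Elements
  Cfsg.Agent.Lib.Suzuki.Stab Cfsg.Agent.Lib.Suzuki.Group Cfsg.Agent.Lib.Suzuki.Simple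
  Cfsg.Agent.Lib.Suzuki.Sylow2 Cfsg.Agent.Lib.Suzuki.Count Cfsg.Agent.Lib.SzIso.OutSz
  Cfsg.Agent.Lib.SzIso.SubSz Cfsg.Agent.Lib.Suzuki.Cyc Cfsg.Agent.Lib.Suzuki.CN
  Cfsg.Agent.Lib.SuzukiX.Partition Cfsg.Agent.Lib.SuzukiX.Central Cfsg.Agent.Lib.SzIso.MaxSz
  Cfsg.Agent.Lib.SzIso.SolSz
open scoped Matrix Pointwise

variable {F : Type*} [Field F] [Fintype F] [CharP F 2] {m : ℕ} (hc : Ctx F m)

include hc in
/-- The proper subgroups. -/
theorem classify' {H : Subgroup (Sz F m)} (hH : H ≠ ⊤) :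
    (∃ p : OO F m, ∀ g ∈ H, g • p = p) ∨ (∃ a : Sz F m, a ≠ 1 ∧ Odd (orderOf a) ∧ H ≤ NN a) ∨
    (∃ (K : Type) (_ : Field K) (_ : Fintype K) (k : ℕ), 1 ≤ k ∧ k < m ∧ Fintype.card K = 2 ^ (2 * k + 1) ∧
      2 * k + 1 ∣ 2 * m + 1 ∧ ∃ S : Subgroup ↥(Cfsg.Sz F m), Nonempty (↥S ≃* ↥(Cfsg.Sz K k)) ∧ H ≤ S) := by
  have hm := hc.hm
  rcases concl_of_ne_top hc hH with ⟨P, hP⟩ | ⟨U, hU1, hU2, hU3⟩ | h3
  · exact Or.inl (fix_of_normalizer hc hP)
  · right; left
    have hoddU : Odd (Nat.card U) := by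
      rcases hU2 with h | h | h <;> rw [h]
      · exact odd_q
      · exact odd_plus hm
      · exact odd_minus hm
    have hU1' : U ≠ ⊥ := by
      rintro rfl
      rw [Subgroup.card_bot] at hU2
      have h3 := Cfsg.Agent.Lib.SuzukiX.Partition.s_lt hm
      have h4 : 0 < 2 ^ (m + 1) := by positivity
      simp only [Set.mem_insert_iff, Set.mem_singleton_iff] at hU2
      rcases hU2 with h | h | h <;> omega
    obtain ⟨⟨u₀, hu₀⟩, hu₁'⟩ := Subgroup.ne_bot_iff_exists_ne_one.1 hU1'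
    have hu₁ : u₀ ≠ 1 := fun h => hu₁' (Subtype.ext h)
    have hle := odd_le_Cz hc hoddU hu₀ hu₁
    have hord : Odd (orderOf u₀) := Odd.of_dvd_nat hoddU (Subgroup.orderOf_dvd_natCard U hu₀)
    have hG := good_of_odd hc hu₁ hord
    refine ⟨u₀, hu₁, hord, ?_⟩
    intro g hg
    rw [Subgroup.mem_normalizer_iff]
    intro c
    have h1 : g * u₀ * g⁻¹ ∈ Cz u₀ := hle ((Subgroup.mem_normalizer_iff.1 (hU3 hg) u₀).1 hu₀)
    have h2 : g * u₀ * g⁻¹ ≠ 1 := by
      intro h
      apply hu₁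
      have e : u₀ = g⁻¹ * (g * u₀ * g⁻¹) * g := by group
      rw [e, h]
      group
    have e1 := hG.eq _ h1 h2
    have h3 := conj_mem_Cz hc (g := u₀) (c := c) (t := g)
    rw [e1] at h3
    exact h3.symm
  · exact Or.inr (Or.inr h3)

include hc in
/-- The fixed points of `a` are permuted by `N(C(a))`. -/
lemma NN_preserves {a g : Sz F m} (ha1 : a ≠ 1) {p p' : OO F m} (hne : p ≠ p') (hp : a • p = p) (hp' : a • p' = p')
    (hgN : g ∈ NN a) {w : OO F m} (hw : w = p ∨ w = p') : g • w = p ∨ g • w = p' := by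
  have hCz := Cz_eq_Tpp hc ha1 hne hp hp'
  have h3 : g⁻¹ * a * g ∈ Cz a := by
    have h4 := (Subgroup.mem_normalizer_iff.1 (inv_mem hgN) a).1 (self_mem_Cz a)
    simpa using h4
  rw [hCz] at h3
  have h3' : (g⁻¹ * a * g) • w = w := by
    rcases hw with rfl | rfl
    · exact h3.1
    · exact h3.2
  have h4 : a • (g • w) = g • w := by
    have h5 := congrArg (fun z => g • z) h3'
    simp only [mul_smul, smul_inv_smul] at h5
    exact h5
  by_contra hcon
  push Not at hcon
  exact ha1 (no_three hc a p p' (g • w) hne (Ne.symm hcon.2) (Ne.symm hcon.1) hp hp' h4)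

include hc in
/-- At most one involution fixing infinity normalises. -/
lemma unique_inv_NN {a t t' : Sz F m} (ha1 : a ≠ 1) (hodd : Odd (orderOf a)) (ht : IsInv t) (ht' : IsInv t')
    (htinf : t • (infO : OO F m) = infO) (ht'inf : t' • (infO : OO F m) = infO) (htN : t ∈ NN a) (ht'N : t' ∈ NN a) :
    t = t' := by
  by_cases hfix : ∃ p : OO F m, a • p = p
  · obtain ⟨p, hp⟩ := hfix
    obtain ⟨p', hne, hp'⟩ := exists_second_fix hc ha1 hodd hp
    obtain ⟨r, r', hr, hr', hne', hrinf⟩ : ∃ r r' : OO F m, a • r = r ∧ a • r' = r' ∧ r ≠ r' ∧ r ≠ infO := by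
      by_cases h : p = infO
      · exact ⟨p', p, hp', hp, hne.symm, fun h' => hne (h.trans h'.symm)⟩
      · exact ⟨p, p', hp, hp', hne, h⟩
    have key : ∀ s : Sz F m, IsInv s → s • (infO : OO F m) = infO → s ∈ NN a → s • r = r' := by
      intro s hs hsinf hsN
      rcases NN_preserves hc ha1 hne' hr hr' hsN (Or.inl rfl) with h | h
      · exact absurd (fix_unique hc hs h hsinf) hrinf
      · exact h
    have h1 := key t ht htinf htN
    have h2 := key t' ht' ht'inf ht'N
    obtain ⟨b, hb, rfl⟩ := inv_at_inf hc ht htinf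
    obtain ⟨b', hb', rfl⟩ := inv_at_inf hc ht' ht'inf
    have h3 : (uS hc 0 b * uS hc 0 b') • r = r := by
      rw [mul_smul, h2, ← h1, ← mul_smul, uS_zero_sq, one_smul]
    have h5 := eq_one_of_mem_Usub_fix hc ((Usub hc).mul_mem (uS_mem hc _ _) (uS_mem hc _ _)) h3 hrinf
    have h7 := eq_inv_of_mul_eq_one_left h5
    rw [ht'.inv_eq] at h7
    exact h7
  · push Not at hfix
    exact unique_inv hc ⟨ha1, hfix⟩ hodd ht ht' htinf ht'inf htN ht'N

/-- An arithmetic bound on the order of the subfield subgroups. -/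
lemma card_subfield_lt {k : ℕ} (hk : 1 ≤ k) (hkm : k < m) (hdiv : 2 * k + 1 ∣ 2 * m + 1) :
    2 * ((2 ^ (2 * k + 1)) ^ 2 * ((2 ^ (2 * k + 1)) ^ 2 + 1) * (2 ^ (2 * k + 1) - 1)) < (2 ^ (2 * m + 1)) ^ 2 := by
  obtain ⟨d, hd⟩ := hdiv
  have hd3 : 3 ≤ d := by
    rcases Nat.even_or_odd' d with ⟨j, rfl | rfl⟩
    · have : 2 * m + 1 = 2 * ((2 * k + 1) * j) := by rw [hd]; ring
      omega
    · have : j ≠ 0 := by
        rintro rfl
        have : 2 * m + 1 = 2 * k + 1 := by rw [hd]; ring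
        omega
      omega
  set s := 2 ^ (2 * k + 1) with hs
  have hs8 : 8 ≤ s := by
    calc 8 = 2 ^ 3 := by norm_num
      _ ≤ s := Nat.pow_le_pow_right (by norm_num) (by omega)
  have hq : 2 ^ (2 * m + 1) = s ^ d := by rw [hd, pow_mul]
  have hq3 : s ^ 3 ≤ 2 ^ (2 * m + 1) := by
    rw [hq]
    exact Nat.pow_le_pow_right (by omega) hd3
  have hq6 : (s ^ 3) ^ 2 ≤ (2 ^ (2 * m + 1)) ^ 2 := Nat.pow_le_pow_left hq3 2
  refine lt_of_lt_of_le ?_ hq6
  obtain ⟨t, ht⟩ : ∃ t, s = t + 1 := ⟨s - 1, by omega⟩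
  rw [ht, Nat.add_sub_cancel]
  have ht7 : 7 ≤ t := by omega
  have h1 : 2 * ((t + 1) ^ 2 * ((t + 1) ^ 2 + 1) * t) < (t + 1) ^ 5 * 2 := by
    have h2 : ((t + 1) ^ 2 + 1) * t < (t + 1) ^ 3 := by nlinarith
    have h3 : (t + 1) ^ 2 * (((t + 1) ^ 2 + 1) * t) < (t + 1) ^ 2 * (t + 1) ^ 3 :=
      Nat.mul_lt_mul_of_pos_left h2 (by positivity)
    nlinarith
  have h4 : (t + 1) ^ 5 * 2 ≤ ((t + 1) ^ 3) ^ 2 := by
    have : ((t + 1) ^ 3) ^ 2 = (t + 1) ^ 5 * (t + 1) := by ring
    rw [this]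
    exact Nat.mul_le_mul_left _ (by omega)
  exact lt_of_lt_of_le h1 h4

section Action

variable {Ω : Type*} [Finite Ω] [MulAction (Sz F m) Ω]

/-- The basic counting argument. -/
lemma card_le_two_mul {N : Subgroup (Sz F m)} {α : Ω} {x : Sz F m}
    (hN : ∀ n ∈ N, x • (n • α) = n • α) (hfix : Nat.card (MulAction.fixedBy Ω x) ≤ 2) :
    Nat.card N ≤ 2 * Nat.card ↥(N ⊓ MulAction.stabilizer (Sz F m) α) := by
  have h1 := Subgroup.card_mul_index (MulAction.stabilizer N α)
  rw [MulAction.index_stabilizer] at h1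
  have h2 : Nat.card (MulAction.orbit N α) ≤ Nat.card (MulAction.fixedBy Ω x) := by
    apply Nat.card_le_card_of_injective
      (fun y : MulAction.orbit N α => (⟨(y : Ω), ?_⟩ : MulAction.fixedBy Ω x))
    · intro a b h
      have h4 := congrArg Subtype.val h
      exact Subtype.ext h4
    · obtain ⟨y, ⟨n, hn⟩⟩ := y
      show x • y = y
      rw [← hn]
      exact hN n n.2
  have h3 : Nat.card (MulAction.stabilizer N α) = Nat.card ↥(N ⊓ MulAction.stabilizer (Sz F m) α) := by
    refine Nat.card_congr (Equiv.ofBijective (fun n => ⟨((n : N) : Sz F m), n.1.2, n.2⟩) ⟨?_, ?_⟩)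
    · intro a b h
      have h4 := congrArg Subtype.val h
      exact Subtype.ext (Subtype.ext h4)
    · rintro ⟨n, hn1, hn2⟩
      exact ⟨⟨⟨n, hn1⟩, hn2⟩, rfl⟩
  rw [h3] at h1
  rw [← h1, mul_comm]
  exact Nat.mul_le_mul_right _ (h2.trans hfix)

variable [MulAction.IsPretransitive (Sz F m) Ω]

/-- The case of a stabiliser containing the base involution. -/
theorem stab_eq_of_zz {β : Ω} (hzβ : zz hc • β = β) (hfix : Nat.card (MulAction.fixedBy Ω (zz hc)) ≤ 2)
    (hne : ∃ ω₁ ω₂ : Ω, ω₁ ≠ ω₂) (y : Sz F m) : y • β = β ↔ y • (infO : OO F m) = infO := by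
  have hq := hc.hm
  have hq8 : 8 ≤ 2 ^ (2 * m + 1) := by
    calc 8 = 2 ^ 3 := by norm_num
      _ ≤ 2 ^ (2 * m + 1) := Nat.pow_le_pow_right (by norm_num) (by omega)
  set H := MulAction.stabilizer (Sz F m) β with hH
  have hmemH : ∀ {g : Sz F m}, g ∈ H ↔ g • β = β := Iff.rfl
  -- the group `U` fixes the orbit
  have hU : ∀ n ∈ Usub hc, zz hc • (n • β) = n • β := by
    intro n hn
    rw [← mul_smul, ← comm_of_mem_Usub hc hn, mul_smul, hzβ]
  have h1 := card_le_two_mul hU hfix
  rw [card_Usub hc] at h1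
  set H₂ := Usub hc ⊓ H with hH₂
  -- squares in `H₂`
  have horbit : ∀ {N : Subgroup (Sz F m)}, (∀ n ∈ N, zz hc • (n • β) = n • β) → ∀ n ∈ N, n ^ 2 • β = β := by
    intro N hN n hn
    by_contra hcon
    have h2 : n • β ≠ β := by
      intro h
      apply hcon
      rw [pow_two, mul_smul, h, h]
    have h3 : (n ^ 2) • β ≠ n • β := by
      intro h
      rw [pow_two, mul_smul] at h
      exact h2 (smul_left_cancel n h)
    have h4 : ({β, n • β, n ^ 2 • β} : Set Ω) ⊆ MulAction.fixedBy Ω (zz hc) := by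
      rintro w (rfl | rfl | rfl)
      · exact hzβ
      · exact hN n hn
      · exact hN _ (N.pow_mem hn 2)
    have h5 := Set.ncard_le_ncard h4 (Set.toFinite _)
    have h6 : ({β, n • β, n ^ 2 • β} : Set Ω).ncard = 3 :=
      Set.ncard_eq_three.2 ⟨_, _, _, h2.symm, Ne.symm hcon, h3.symm, rfl⟩
    rw [h6] at h5
    have h7 : (MulAction.fixedBy Ω (zz hc)).ncard = Nat.card (MulAction.fixedBy Ω (zz hc)) :=
      (Nat.card_coe_set_eq _).symm
    omega
  have hsq : ∀ a b : F, uS hc a b ^ 2 • β = β := fun a b => horbit hU _ (uS_mem hc a b)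
  have hZ : ∀ b : F, uS hc 0 b ∈ H := by
    intro b
    obtain ⟨a, rfl⟩ := exists_th_mul_self hc b
    have h2 := hsq a 0
    rw [pow_two, uS_sq] at h2
    exact h2
  have htop : H ≠ ⊤ := by
    intro h
    obtain ⟨ω₁, ω₂, hω⟩ := hne
    obtain ⟨g₁, hg₁⟩ := MulAction.exists_smul_eq (Sz F m) β ω₁
    obtain ⟨g₂, hg₂⟩ := MulAction.exists_smul_eq (Sz F m) β ω₂
    have hall : ∀ g : Sz F m, g • β = β := fun g => by
      have h2 : g ∈ H := by rw [h]; trivial
      exact h2
    rw [hall] at hg₁ hg₂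
    exact hω (hg₁.symm.trans hg₂)
  have hfixinf : ∀ g ∈ H, g • (infO : OO F m) = infO := by
    rcases classify' hc htop with ⟨p, hp⟩ | ⟨a, ha, hoa, hle⟩ | ⟨K, iK, iK2, k, hk1, hk2, hK, hdiv, S, ⟨φ⟩, hS'⟩
    · have h2 : zz hc • p = p := hp _ hzβ
      have h3 := fix_unique hc (isInv_zz hc) h2 (zz_smul_inf hc)
      rw [h3] at hp
      exact hp
    · exfalso
      obtain ⟨l, hl⟩ := exists_unit_ne_one hc
      have hl' : (l : F) ≠ 1 := fun h => hl (Units.ext h)
      have h2 := unique_inv_NN hc ha hoa (isInv_uS_zero hc l.ne_zero) (isInv_zz hc) (uS_zero_smul_inf hc _)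
        (zz_smul_inf hc) (hle (hZ (l : F))) (hle (hZ 1))
      exact hl' (uS_injective hc h2).2
    · exfalso
      have hch' : CharP K 2 := charP_two_of_card hK
      have hcK := ctx_of_card hk1 hK
      have h2 : Nat.card H₂ ≤ Nat.card S :=
        Subgroup.card_le_of_le (inf_le_right.trans hS')
      rw [Nat.card_congr φ.toEquiv, card_Sz hcK] at h2
      have h3 := card_subfield_lt (m := m) hk1 hk2 hdiv
      have h4 : (2 ^ (2 * m + 1)) ^ 2 = 2 ^ (2 * (2 * m + 1)) := by
        rw [← pow_mul, mul_comm]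
      rw [h4] at h3
      omega
  -- the stabiliser of infinity moves `β` in the fixed points of `zz`
  have hN : ∀ n ∈ MulAction.stabilizer (Sz F m) (infO : OO F m), zz hc • (n • β) = n • β := by
    intro n hn
    have hn' : n • (infO : OO F m) = infO := hn
    have h2 : (n⁻¹ * zz hc * n) • (infO : OO F m) = infO := by
      rw [mul_smul, mul_smul, hn', zz_smul_inf, inv_smul_eq_iff, hn']
    have h3 : IsInv (n⁻¹ * zz hc * n) := by
      have := (isInv_zz hc).conj n⁻¹
      rwa [inv_inv] at this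
    obtain ⟨c, -, h4⟩ := inv_at_inf hc h3 h2
    have h5 : (n⁻¹ * zz hc * n) • β = β := by
      rw [h4]
      exact hZ c
    have h6 := congrArg (fun w => n • w) h5
    simp only [mul_smul, smul_inv_smul] at h6
    exact h6
  have hsqN := horbit hN
  have hT : ∀ l : Fˣ, hS hc l ∈ H := by
    intro l
    obtain ⟨k, rfl⟩ := exists_sqrt_unit hc l
    have h2 := hsqN (hS hc k) (Subtype.ext (hS_smul_inf hc k))
    rw [pow_two, hS_mul] at h2
    exact h2
  -- an element with nonzero first coordinate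
  have hex : ∃ a b : F, a ≠ 0 ∧ uS hc a b ∈ H := by
    by_contra hcon
    push Not at hcon
    have hle : H₂ ≤ EA hc ⊤ := by
      rintro u ⟨⟨a, b, rfl⟩, hu⟩
      have ha : a = 0 := by
        by_contra ha
        exact hcon a b ha hu
      subst ha
      exact (uS_mem_EA hc).2 trivial
    have h2 := Subgroup.card_le_of_le hle
    rw [card_EA, AddSubgroup.card_top, card_field_eq hc] at h2
    have h3 : (2 ^ (2 * m + 1)) ^ 2 ≤ 2 * 2 ^ (2 * m + 1) := h1.trans (by omega)
    nlinarith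
  obtain ⟨a₀, b₀, ha₀, hab₀⟩ := hex
  have ha₀' : uS hc a₀ 0 ∈ H := by
    have h2 := H.mul_mem hab₀ (H.inv_mem (hZ b₀))
    rw [uS_split hc a₀ b₀, mul_assoc, mul_inv_cancel, mul_one] at h2
    exact h2
  have hall : ∀ a : F, uS hc a 0 ∈ H := by
    intro a
    by_cases ha : a = 0
    · subst ha
      rw [uS_zero]
      exact H.one_mem
    · have hne : a / a₀ ≠ 0 := div_ne_zero ha ha₀
      have h2 := H.mul_mem (H.mul_mem (hT (Units.mk0 _ hne)) ha₀') (H.inv_mem (hT (Units.mk0 _ hne)))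
      rw [hS_conj_uS, mul_zero] at h2
      have e : ((Units.mk0 _ hne : Fˣ) : F) * a₀ = a := by
        rw [Units.val_mk0]
        field_simp
      rwa [e] at h2
  constructor
  · exact hfixinf y
  · intro hy
    obtain ⟨a, b, l, hab⟩ := stab_inf_decomp hc (g := y) (congrArg Subtype.val hy)
    rw [hab]
    apply H.mul_mem _ (hT l)
    rw [uS_split hc a b]
    exact H.mul_mem (hall a) (hZ b)

include hc in
/-- The case of even point stabilisers. -/
theorem even_case {α : Ω} {t : Sz F m} (ht : IsInv t) (hα : t • α = α)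
    (hfix : ∀ g : Sz F m, g ≠ 1 → Nat.card (MulAction.fixedBy Ω g) ≤ 2) (hne : ∃ ω₁ ω₂ : Ω, ω₁ ≠ ω₂) :
    Nat.card Ω = (2 ^ (2 * m + 1)) ^ 2 + 1 ∧ MulAction.IsMultiplyPretransitive (Sz F m) Ω 2 := by
  obtain ⟨g, hg⟩ := exists_conj_zz hc ht
  set β := g • α with hβ
  have hzβ : zz hc • β = β := by
    rw [← hg, hβ, mul_smul, mul_smul, inv_smul_smul, hα]
  have hstab := stab_eq_of_zz hc hzβ (hfix _ (isInv_zz hc).1) hne
  constructor
  · have h1 := Subgroup.card_mul_index (MulAction.stabilizer (Sz F m) β)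
    rw [MulAction.index_stabilizer_of_transitive] at h1
    have h2 : Nat.card (MulAction.stabilizer (Sz F m) β) = (2 ^ (2 * m + 1)) ^ 2 * (2 ^ (2 * m + 1) - 1) := by
      rw [← ncard_fix hc (infO : OO F m), ← Nat.card_coe_set_eq]
      exact Nat.card_congr (Equiv.subtypeEquivRight hstab)
    rw [h2, card_Sz hc] at h1
    have hpos : 0 < (2 ^ (2 * m + 1)) ^ 2 * (2 ^ (2 * m + 1) - 1) := by
      apply Nat.mul_pos (by positivity)
      have : 2 ^ 1 < 2 ^ (2 * m + 1) := by
        apply Nat.pow_lt_pow_right (by norm_num)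
        have := hc.hm
        omega
      omega
    apply Nat.eq_of_mul_eq_mul_left hpos
    rw [h1]
    ring
  · rw [MulAction.is_two_pretransitive_iff]
    intro a b c d hab hcd
    obtain ⟨g₁, rfl⟩ := MulAction.exists_smul_eq (Sz F m) β a
    obtain ⟨g₂, rfl⟩ := MulAction.exists_smul_eq (Sz F m) β b
    obtain ⟨g₃, rfl⟩ := MulAction.exists_smul_eq (Sz F m) β c
    obtain ⟨g₄, rfl⟩ := MulAction.exists_smul_eq (Sz F m) β d
    have key : ∀ g g' : Sz F m, g • (infO : OO F m) = g' • (infO : OO F m) → g • β = g' • β := by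
      intro g g' h
      have h1 : (g'⁻¹ * g) • (infO : OO F m) = infO := by
        rw [mul_smul, h, inv_smul_smul]
      have h2 := (hstab _).2 h1
      rw [mul_smul, inv_smul_eq_iff] at h2
      exact h2
    have hne1 : g₁ • (infO : OO F m) ≠ g₂ • infO := fun h => hab (key _ _ h)
    have hne2 : g₃ • (infO : OO F m) ≠ g₄ • infO := fun h => hcd (key _ _ h)
    have h2t := two_trans hc
    rw [MulAction.is_two_pretransitive_iff] at h2t
    obtain ⟨g', h1, h2⟩ := h2t hne1 hne2
    refine ⟨g', ?_, ?_⟩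
    · rw [← mul_smul]
      apply key
      rw [mul_smul, h1]
    · rw [← mul_smul]
      apply key
      rw [mul_smul, h2]

end Action

omit [Fintype F] [CharP F 2] in
/-- Subgroups of cyclic groups contain all elements with order dividing their order. -/
lemma mem_of_pow_card_eq_one {C : Type*} [Group C] [Finite C] [IsCyclic C] (K : Subgroup C) {a : C}
    (ha : a ^ Nat.card K = 1) : a ∈ K := by
  classical
  letI := Fintype.ofFinite C
  set S : Finset C := Finset.univ.filter (fun u => u ^ Nat.card K = 1) with hS'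
  set T : Finset C := Finset.univ.filter (fun u => u ∈ K) with hT
  have hTS : T ⊆ S := by
    intro u hu
    have hu' : u ∈ K := (Finset.mem_filter.1 hu).2
    refine Finset.mem_filter.2 ⟨Finset.mem_univ _, ?_⟩
    have h1 := pow_card_eq_one' (G := K) (x := ⟨u, hu'⟩)
    exact congrArg Subtype.val h1
  have hcardT : T.card = Nat.card K := by
    rw [Nat.card_eq_fintype_card, hT, Fintype.card_subtype]
  have hcardS : S.card ≤ Nat.card K := IsCyclic.card_pow_eq_one_le Nat.card_pos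
  have heq := Finset.eq_of_subset_of_card_le hTS (by rw [hcardT]; exact hcardS)
  have hlS : a ∈ S := Finset.mem_filter.2 ⟨Finset.mem_univ _, ha⟩
  rw [← heq] at hlS
  exact (Finset.mem_filter.1 hlS).2

section Action2

variable {Ω : Type*} [Finite Ω] [MulAction (Sz F m) Ω] [MulAction.IsPretransitive (Sz F m) Ω]

include hc in
/-- The case of odd point stabilisers. -/
theorem odd_case {α : Ω} {x : Sz F m} (hx1 : x ≠ 1) (hxα : x • α = α)
    (hodd : Odd (Nat.card (MulAction.stabilizer (Sz F m) α)))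
    (hfix : Nat.card (MulAction.fixedBy Ω x) ≤ 2) :
    Nat.card (MulAction.stabilizer (Sz F m) α) = 2 ^ (2 * m + 1) - 1 := by
  set H := MulAction.stabilizer (Sz F m) α with hH
  have hxH : x ∈ H := hxα
  have hle : H ≤ Cz x := odd_le_Cz hc hodd hxH hx1
  have hordx : Odd (orderOf x) := Odd.of_dvd_nat hodd (Subgroup.orderOf_dvd_natCard H hxH)
  have hG := good_of_odd hc hx1 hordx
  haveI := hG.cyc
  have hN : ∀ n ∈ NN x, x • (n • α) = n • α := by
    intro n hn
    have h1 : n⁻¹ * x * n ∈ Cz x := by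
      have h4 := (Subgroup.mem_normalizer_iff.1 (inv_mem hn) x).1 (self_mem_Cz x)
      simpa using h4
    have h2 : (n⁻¹ * x * n) ^ Nat.card H = 1 := by
      have h3 : x ^ Nat.card H = 1 := by
        have h4 := pow_card_eq_one' (G := H) (x := ⟨x, hxH⟩)
        exact congrArg Subtype.val h4
      have h5 := conj_pow (a := n⁻¹) (b := x) (i := Nat.card H)
      rw [inv_inv] at h5
      rw [h5, h3]
      group
    have h3 : (⟨n⁻¹ * x * n, h1⟩ : Cz x) ∈ H.subgroupOf (Cz x) := by
      apply mem_of_pow_card_eq_one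
      have e : Nat.card (H.subgroupOf (Cz x)) = Nat.card H :=
        Nat.card_congr (Subgroup.subgroupOfEquivOfLe hle).toEquiv
      rw [e]
      exact Subtype.ext h2
    have h4 : (n⁻¹ * x * n) • α = α := Subgroup.mem_subgroupOf.1 h3
    have h5 := congrArg (fun w => n • w) h4
    simp only [mul_smul, smul_inv_smul] at h5
    exact h5
  have h1 := card_le_two_mul hN hfix
  have hinf : NN x ⊓ H = H := inf_eq_right.2 (hle.trans Subgroup.le_normalizer)
  rw [hinf] at h1
  have hposC : 0 < Nat.card (Cz x) := Nat.card_pos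
  have hHC : Nat.card H ≤ Nat.card (Cz x) := Subgroup.card_le_of_le hle
  by_cases hfp : ∃ p : OO F m, x • p = p
  · obtain ⟨p, hp⟩ := hfp
    obtain ⟨p', hne, hp'⟩ := exists_second_fix hc hx1 hordx hp
    have hCz := Cz_eq_Tpp hc hx1 hne hp hp'
    obtain ⟨s, hs1, hs2⟩ := exists_swap_elem hc hne
    have hsN : s ∈ NN x := by
      rw [Subgroup.mem_normalizer_iff]
      intro c
      have hy1 : s⁻¹ • p = p' := by rw [inv_smul_eq_iff, hs2]
      have hy2 : s⁻¹ • p' = p := by rw [inv_smul_eq_iff, hs1]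
      rw [hCz, mem_Tpp, mem_Tpp]
      constructor
      · rintro ⟨h3, h4⟩
        constructor
        · rw [mul_smul, mul_smul, hy1, h4, hs2]
        · rw [mul_smul, mul_smul, hy2, h3, hs1]
      · rintro ⟨h3, h4⟩
        constructor
        · rw [mul_smul, mul_smul, hy2] at h4
          have h5 : s • (c • p) = s • p := by rw [h4, hs1]
          exact smul_left_cancel s h5
        · rw [mul_smul, mul_smul, hy1] at h3
          have h5 : s • (c • p') = s • p' := by rw [h3, hs2]
          exact smul_left_cancel s h5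
    have hsC : s ∉ Cz x := by
      intro h
      rw [hCz] at h
      exact hne (h.1.symm.trans hs1)
    have hleN : Cz x ≤ NN x := Subgroup.le_normalizer
    obtain ⟨f, hf⟩ := Subgroup.card_dvd_of_le hleN
    have hf2 : 2 ≤ f := by
      by_contra hcon
      have hf1 : f = 1 ∨ f = 0 := by omega
      rcases hf1 with rfl | rfl
      · rw [mul_one] at hf
        have h3 : Cz x = NN x := Subgroup.eq_of_le_of_card_ge hleN (le_of_eq hf)
        rw [← h3] at hsN
        exact hsC hsN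
      · rw [mul_zero] at hf
        exact absurd hf (Nat.card_pos.ne')
    have h3 : 2 * Nat.card (Cz x) ≤ Nat.card (NN x) := by
      rw [hf, mul_comm]
      exact Nat.mul_le_mul_left _ hf2
    have h4 : Nat.card H = Nat.card (Cz x) := by omega
    rw [h4, hCz, card_Tpp hc hne]
  · exfalso
    push Not at hfp
    have h2 := card_NN_fpf hc (⟨hx1, hfp⟩ : IsFPF x)
    omega

include hc in
/-- The main theorem. -/
theorem main_Fix2 (hfix : ∀ g : Sz F m, g ≠ 1 → Nat.card (MulAction.fixedBy Ω g) ≤ 2)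
    (hex : ∃ g : Sz F m, g ≠ 1 ∧ Nat.card (MulAction.fixedBy Ω g) = 2) :
    (Nat.card Ω = (2 ^ (2 * m + 1)) ^ 2 + 1 ∧ MulAction.IsMultiplyPretransitive (Sz F m) Ω 2) ∨
    (Nat.card Ω = (2 ^ (2 * m + 1)) ^ 2 * ((2 ^ (2 * m + 1)) ^ 2 + 1) ∧
      ∀ α : Ω, Nat.card (MulAction.stabilizer (Sz F m) α) = 2 ^ (2 * m + 1) - 1) := by
  obtain ⟨g₀, hg₀, hg₀2⟩ := hex
  have hfin : Finite (MulAction.fixedBy Ω g₀) := inferInstance
  have hcard2 : (MulAction.fixedBy Ω g₀).ncard = 2 := by
    rw [← Nat.card_coe_set_eq]; exact hg₀2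
  obtain ⟨ω₁, ω₂, hω, hset⟩ := Set.ncard_eq_two.1 hcard2
  have hω₁ : g₀ • ω₁ = ω₁ := by
    have : ω₁ ∈ MulAction.fixedBy Ω g₀ := by rw [hset]; simp
    exact this
  by_cases hinv : ∃ (α : Ω) (t : Sz F m), IsInv t ∧ t • α = α
  · obtain ⟨α, t, ht, hα⟩ := hinv
    exact Or.inl (even_case hc ht hα hfix ⟨ω₁, ω₂, hω⟩)
  · push Not at hinv
    right
    have hodd : ∀ α : Ω, Odd (Nat.card (MulAction.stabilizer (Sz F m) α)) := by
      intro α
      by_contra hcon
      rw [Nat.not_odd_iff_even] at hcon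
      obtain ⟨x, hx⟩ := exists_prime_orderOf_dvd_card' (G := MulAction.stabilizer (Sz F m) α) 2 hcon.two_dvd
      have h1 : IsInv (x : Sz F m) := by
        have h2 : ((x : Sz F m)) ≠ 1 := by
          intro h
          have : x = 1 := Subtype.ext h
          rw [this, orderOf_one] at hx
          omega
        refine ⟨h2, ?_⟩
        have h3 := pow_orderOf_eq_one x
        rw [hx, pow_two] at h3
        exact congrArg Subtype.val h3
      exact hinv α x h1 x.2
    have hcardstab : Nat.card (MulAction.stabilizer (Sz F m) ω₁) = 2 ^ (2 * m + 1) - 1 :=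
      odd_case hc hg₀ hω₁ (hodd ω₁) (hfix _ hg₀)
    have hall : ∀ α : Ω, Nat.card (MulAction.stabilizer (Sz F m) α) = 2 ^ (2 * m + 1) - 1 := by
      intro α
      obtain ⟨g, rfl⟩ := MulAction.exists_smul_eq (Sz F m) ω₁ α
      rw [← hcardstab]
      exact (Nat.card_congr (MulAction.stabilizerEquivStabilizer rfl).toEquiv).symm
    refine ⟨?_, hall⟩
    have h1 := Subgroup.card_mul_index (MulAction.stabilizer (Sz F m) ω₁)
    rw [MulAction.index_stabilizer_of_transitive, hcardstab, card_Sz hc] at h1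
    have hpos : 0 < 2 ^ (2 * m + 1) - 1 := by
      have : 2 ^ 1 < 2 ^ (2 * m + 1) := by
        apply Nat.pow_lt_pow_right (by norm_num)
        have := hc.hm
        omega
      omega
    apply Nat.eq_of_mul_eq_mul_left hpos
    rw [h1]
    ring

end Action2

end Cfsg.Agent.Lib.SzIso.Fix2
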